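import Cfsg.Agent.H454.Reg.Alt.Defs
import Cfsg.Agent.H386.HalfTwo.Main
import Cfsg.Agent.H488.ThreeMain
import Cfsg.Agent.S0245
import Cfsg.Agent.S0246
import Cfsg.Agent.S0280

/-!
# S3691, alternating socle, Case II, `k = 3`: the 2-transitive list (helper279)

`st_three : StThree`
-/

set_option autoImplicit false

namespace Cfsg.Agent.H279.Reg3691

open Equiv MulAction Cfsg.Agent.H384.TwoTrans Cfsg.Agent.H392.MultTrans Cfsg.Agent.H386.HalfTwo

universe u v

/-! ### general facts -/

theorem card_dvd_of_free {G : Type u} {X : Type v} [Group G] [MulAction G X] [Finite G] [Finite X]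
    (h : ∀ x : X, stabilizer G x = ⊥) : Nat.card G ∣ Nat.card X := by
  classical
  have : Fintype X := Fintype.ofFinite X
  have h2 : Nat.card X = ∑ ω : Quotient (orbitRel G X), Nat.card (orbitRel.Quotient.orbit ω) := by
    rw [Nat.card_congr (MulAction.selfEquivSigmaOrbits' G X), Nat.card_sigma]
  rw [h2]
  apply Finset.dvd_sum
  intro ω _
  induction ω using Quotient.inductionOn with
  | h b =>
    rw [MulAction.orbitRel.Quotient.orbit_mk, Nat.card_coe_set_eq, ← MulAction.index_stabilizer, h b, Subgroup.index_bot]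

theorem card_orbit_mul {G : Type u} {X : Type v} [Group G] [MulAction G X] (N : Subgroup G) (c : X) :
    Nat.card (orbit N c) * Nat.card (N ⊓ stabilizer G c : Subgroup G) = Nat.card N := by
  have h1 : (stabilizer N c).map N.subtype = N ⊓ stabilizer G c := by
    ext g
    constructor
    · rintro ⟨x, hx, rfl⟩
      exact ⟨x.2, hx⟩
    · rintro ⟨h1, h2⟩
      exact ⟨⟨g, h1⟩, h2, rfl⟩
  have h2 : Nat.card ((stabilizer N c).map N.subtype) = Nat.card (stabilizer N c) :=
    (Nat.card_congr ((stabilizer N c).equivMapOfInjective _ N.subtype_injective).toEquiv).symm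
  rw [← h1, h2, ← Nat.card_prod, Nat.card_congr (MulAction.orbitProdStabilizerEquivGroup N c)]

section

variable {G : Type u} {Ω : Type v} [Group G] [MulAction G Ω] [Finite G] [Fintype Ω] [DecidableEq Ω]

theorem descFactorial_three (n : ℕ) : n.descFactorial 3 = n * (n - 1) * (n - 2) := by
  rw [Nat.descFactorial_succ, Nat.descFactorial_succ, Nat.descFactorial_one]
  ring

/-- the pointwise stabiliser of a set -/
def PS (G : Type u) {Ω : Type v} [Group G] [MulAction G Ω] (s : Finset Ω) : Subgroup G where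
  carrier := {g | ∀ x ∈ s, g • x = x}
  one_mem' := fun x _ => one_smul _ x
  mul_mem' := by
    intro a b ha hb x hx
    rw [mul_smul, hb x hx, ha x hx]
  inv_mem' := by
    intro a ha x hx
    rw [inv_smul_eq_iff, ha x hx]

theorem mem_PS {s : Finset Ω} {g : G} : g ∈ PS G s ↔ ∀ x ∈ s, g • x = x := Iff.rfl

open scoped Pointwise in
theorem card_PS_smul (g : G) (s : Finset Ω) : Nat.card (PS G (g • s)) = Nat.card (PS G s) := by
  have h : PS G (g • s) = (PS G s).map (MulAut.conj g).toMonoidHom := by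
    ext x
    constructor
    · intro hx
      refine ⟨g⁻¹ * x * g, ?_, ?_⟩
      · intro y hy
        rw [mul_smul, mul_smul, hx (g • y) (Finset.smul_mem_smul_finset hy), inv_smul_smul]
      · simp [mul_assoc]
    · rintro ⟨y, hy, rfl⟩ z hz
      rw [Finset.mem_smul_finset] at hz
      obtain ⟨w, hw, rfl⟩ := hz
      simp only [MulEquiv.toMonoidHom_eq_coe, MonoidHom.coe_coe, MulAut.conj_apply]
      rw [mul_smul, mul_smul, inv_smul_smul, hy w hw]
  rw [h]
  exact (Nat.card_congr ((PS G s).equivMapOfInjective _ (MulAut.conj g).injective).toEquiv).symm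

/-- **2-transitive and 3-homogeneous: `(2 + 1/2)`-transitive** -/
theorem exists_half' (h2 : IsMultiplyPretransitive G Ω 2) (h3 : IsPretransitive G (Set.powersetCard Ω 3)) :
    ∃ m, Half G Ω m := by
  by_cases hex : ∃ a b c : Ω, a ≠ b ∧ c ≠ a ∧ c ≠ b
  swap
  · push Not at hex
    exact ⟨0, ⟨fun a b c h1 h2 h3 => absurd (hex a b c h1 h2) h3⟩⟩
  obtain ⟨a, b, c, hab, hca, hcb⟩ := hex
  refine ⟨Nat.card (orbit (GG G a b) c), ⟨fun a' b' c' hab' hca' hcb' => ?_⟩⟩
  have e1 : ∀ x y : Ω, x ≠ y → Nat.card (GG G x y) = Nat.card (GG G a b) := by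
    intro x y hxy
    obtain ⟨g, h4, h5⟩ := (MulAction.is_two_pretransitive_iff.1 h2) hab hxy
    have h6 : GG G x y = (GG G a b).map (MulAut.conj g).toMonoidHom := by
      ext n
      constructor
      · intro hn
        refine ⟨g⁻¹ * n * g, ?_, by simp [mul_assoc]⟩
        have := (GG_conj (a := a) (b := b) g (g⁻¹ * n * g)).2
        rw [h4, h5] at this
        exact this (by simpa [mul_assoc] using hn)
      · rintro ⟨n, hn, rfl⟩
        have := (GG_conj (a := a) (b := b) g n).1 hn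
        rw [h4, h5] at this
        simpa using this
    rw [h6]
    exact (Nat.card_congr ((GG G a b).equivMapOfInjective _ (MulAut.conj g).injective).toEquiv).symm
  have e2 : ∀ x y z : Ω, x ≠ y → z ≠ x → z ≠ y → Nat.card (GG G x y ⊓ stabilizer G z : Subgroup G) =
      Nat.card (PS G ({x, y, z} : Finset Ω)) := by
    intro x y z _ _ _
    have : GG G x y ⊓ stabilizer G z = PS G ({x, y, z} : Finset Ω) := by
      ext g
      rw [Subgroup.mem_inf, mem_GG, mem_PS, mem_stabilizer_iff]
      simp only [Finset.mem_insert, Finset.mem_singleton, forall_eq_or_imp, forall_eq]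
      tauto
    rw [this]
  have e3 : Nat.card (PS G ({a', b', c'} : Finset Ω)) = Nat.card (PS G ({a, b, c} : Finset Ω)) := by
    have t1 : ({a, b, c} : Finset Ω).card = 3 := Finset.card_eq_three.2 ⟨a, b, c, hab, hca.symm, hcb.symm, rfl⟩
    have t2 : ({a', b', c'} : Finset Ω).card = 3 := Finset.card_eq_three.2 ⟨a', b', c', hab', hca'.symm, hcb'.symm, rfl⟩
    obtain ⟨g, hg⟩ := h3.exists_smul_eq (⟨{a, b, c}, t1⟩ : Set.powersetCard Ω 3) ⟨{a', b', c'}, t2⟩
    have hg' := congrArg (fun s : Set.powersetCard Ω 3 => (s : Finset Ω)) hg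
    simp only [Set.powersetCard.coe_smul] at hg'
    rw [← card_PS_smul g ({a, b, c} : Finset Ω)]
    exact congrArg (fun s => Nat.card (PS G s)) hg'.symm
  have f1 := card_orbit_mul (GG G a b) c
  have f2 := card_orbit_mul (GG G a' b') c'
  rw [e2 _ _ _ hab hca hcb] at f1
  rw [e2 _ _ _ hab' hca' hcb', e3, e1 _ _ hab', ← f1] at f2
  exact Nat.eq_of_mul_eq_mul_right Nat.card_pos f2

theorem card_of_bot (h2 : IsMultiplyPretransitive G Ω 2) {a b : Ω} (hab : a ≠ b) (h : GG G a b = ⊥) :
    Nat.card G = Nat.card Ω * (Nat.card Ω - 1) := by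
  have h9 := card_eq_descFactorial h2 (pair a b hab)
  have h10 : stabilizer G (pair a b hab) = ⊥ := by
    rw [eq_bot_iff, ← h]
    intro g hg
    rw [mem_stabilizer_iff] at hg
    rw [mem_GG]
    exact ⟨DFunLike.congr_fun hg 0, DFunLike.congr_fun hg 1⟩
  rw [h9, h10, Subgroup.card_bot, mul_one, Nat.descFactorial_succ, Nat.descFactorial_one, mul_comm]

end

/-! ### the numbers -/

theorem psl_num {T n q d : ℕ} (hq : 2 ≤ q) (hd : 3 ≤ d) (hn : n * (q - 1) = q ^ d - 1) (hn2 : 3 ≤ n)
    (hT : Nat.gcd d (q - 1) * ((q - 1) * T) = ∏ i : Fin d, (q ^ d - q ^ (i : ℕ)))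
    (h : T ∣ n * (n - 1) * (n - 2)) : False := by
  obtain ⟨x, rfl⟩ : ∃ x, q = x + 1 := ⟨q - 1, by omega⟩
  obtain ⟨k, rfl⟩ : ∃ k, n = k + 2 := ⟨n - 2, by omega⟩
  simp only [Nat.add_sub_cancel] at hn hT h
  have hcop : Nat.Coprime (x + 1) x := by
    rw [Nat.coprime_self_add_left]
    exact Nat.coprime_one_left x
  have h1 : (x + 1) ^ 2 ∣ T := by
    have h2 : (x + 1) ^ 2 ∣ ∏ i : Fin d, ((x + 1) ^ d - (x + 1) ^ (i : ℕ)) := by
      refine Dvd.dvd.trans ?_ (Finset.dvd_prod_of_mem _ (Finset.mem_univ (⟨2, by omega⟩ : Fin d)))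
      exact Nat.dvd_sub (pow_dvd_pow _ (by omega)) dvd_rfl
    rw [← hT, ← mul_assoc] at h2
    refine Nat.Coprime.dvd_of_dvd_mul_left ?_ h2
    exact Nat.Coprime.pow_left _ (Nat.Coprime.mul_right (hcop.coprime_dvd_right (Nat.gcd_dvd_right _ _)) hcop)
  have h3 : (x + 1) ^ 2 ∣ (k + 2) * (k + 1) * k := h1.trans h
  have h0 : 1 ≤ (x + 1) ^ d := Nat.one_le_pow _ _ (by omega)
  have h4 : (k + 1) * x + (x + 1) = (x + 1) ^ d := by
    have h5 : (k + 2) * x = (k + 1) * x + x := by ring
    omega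
  have h5 : x + 1 ∣ k + 1 := by
    have h6 : x + 1 ∣ (k + 1) * x := by
      have h7 : x + 1 ∣ (k + 1) * x + (x + 1) := by
        rw [h4]
        exact dvd_pow_self _ (by omega)
      exact (Nat.dvd_add_left (dvd_refl _)).1 h7
    exact hcop.dvd_of_dvd_mul_right h6
  have h6 : Nat.Coprime (x + 1) k := by
    refine Nat.Coprime.coprime_dvd_left h5 ?_
    rw [Nat.coprime_self_add_left]
    exact Nat.coprime_one_left k
  have h7 : Nat.Coprime (x + 1) (k + 2) := by
    refine Nat.Coprime.coprime_dvd_left h5 ?_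
    have : k + 2 = (k + 1) + 1 := rfl
    rw [this, Nat.coprime_self_add_right]
    exact Nat.coprime_one_right _
  have h8 : (x + 1) ^ 2 ∣ k + 1 := by
    have h9 := Nat.Coprime.dvd_of_dvd_mul_right (h6.pow_left 2) h3
    exact Nat.Coprime.dvd_of_dvd_mul_left (h7.pow_left 2) h9
  have h9 : (x + 1) ^ 2 ∣ x + 1 := by
    have h10 : (x + 1) ^ 2 ∣ (k + 1) * x + (x + 1) := by
      rw [h4]
      exact pow_dvd_pow _ (by omega)
    exact (Nat.dvd_add_right (h8.mul_right x)).1 h10
  have h10 := Nat.le_of_dvd (by omega) h9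
  nlinarith

theorem psu_num {T n q : ℕ} (hq : 3 ≤ q) (hn : n = q ^ 3 + 1)
    (hT : Nat.gcd 3 (q + 1) * T = q ^ 3 * ((q ^ 3 + 1) * (q ^ 2 - 1)))
    (h : T ∣ n * (n - 1) * (n - 2)) : False := by
  subst hn
  obtain ⟨x, rfl⟩ : ∃ x, q = x + 1 := ⟨q - 1, by omega⟩
  set g := Nat.gcd 3 (x + 1 + 1) with hg
  have e1 : (x + 1) ^ 2 - 1 = x * (x + 2) := by
    have : (x + 1) ^ 2 = x * (x + 2) + 1 := by ring
    omega
  have e2 : (x + 1) ^ 3 + 1 - 2 = x * ((x + 1) * (x + 2) + 1) := by
    have : (x + 1) ^ 3 = x * ((x + 1) * (x + 2) + 1) + 1 := by ring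
    omega
  rw [e1] at hT
  rw [e2, Nat.add_sub_cancel] at h
  have h1 : g * T ∣ g * (((x + 1) ^ 3 + 1) * (x + 1) ^ 3 * (x * ((x + 1) * (x + 2) + 1))) := Nat.mul_dvd_mul_left _ h
  rw [hT] at h1
  have h2 : x + 2 ∣ g * ((x + 1) * (x + 2) + 1) := by
    have hx : 0 < x := by omega
    refine Nat.dvd_of_mul_dvd_mul_left (k := (x + 1) ^ 3 * ((x + 1) ^ 3 + 1) * x) (by positivity) ?_
    convert h1 using 1 <;> ring
  have h3 : Nat.Coprime (x + 2) ((x + 1) * (x + 2) + 1) := by
    rw [Nat.coprime_mul_right_add_right]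
    exact Nat.coprime_one_right _
  have h4 : x + 2 ∣ g := h3.dvd_of_dvd_mul_right h2
  have h5 : g ∣ 3 := Nat.gcd_dvd_left _ _
  have h6 := Nat.le_of_dvd (by norm_num) (h4.trans h5)
  omega

theorem sp_num {T n m : ℕ} (hm : 3 ≤ m) (hn : n = 2 ^ (m - 1) * (2 ^ m + 1) ∨ n = 2 ^ (m - 1) * (2 ^ m - 1))
    (hT : 2 ^ (m ^ 2) ∣ T) (h : T ∣ n * (n - 1) * (n - 2)) : False := by
  obtain ⟨k, rfl⟩ : ∃ k, m = k + 3 := ⟨m - 3, by omega⟩
  have e0 : k + 3 - 1 = k + 2 := by omega
  rw [e0] at hn
  have h1 : 2 ^ (k + 2) * 4 ∣ n * (n - 1) * (n - 2) := by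
    refine Dvd.dvd.trans ?_ (hT.trans h)
    have : (2 : ℕ) ^ (k + 2) * 4 = 2 ^ (k + 4) := by
      rw [pow_add, pow_add]; ring
    rw [this]
    refine pow_dvd_pow _ ?_
    nlinarith
  have hodd : ∃ c, n = 2 ^ (k + 2) * (2 * c + 1) := by
    rcases hn with hn | hn
    · exact ⟨2 ^ (k + 2), by rw [hn, pow_succ 2 (k + 2)]; ring⟩
    · refine ⟨2 ^ (k + 2) - 1, ?_⟩
      rw [hn]
      congr 1
      have : 1 ≤ 2 ^ (k + 2) := Nat.one_le_two_pow
      rw [pow_succ 2 (k + 2)]
      omega
  obtain ⟨c, rfl⟩ := hodd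
  obtain ⟨a, ha, ha0⟩ : ∃ a, 2 ^ (k + 2) = 4 * a ∧ 1 ≤ a := ⟨2 ^ k, by rw [pow_add]; ring, Nat.one_le_two_pow⟩
  rw [ha] at h1
  have h2 : 4 ∣ (2 * c + 1) * ((4 * a * (2 * c + 1) - 1) * (4 * a * (2 * c + 1) - 2)) := by
    refine Nat.dvd_of_mul_dvd_mul_left (k := 4 * a) (by omega) ?_
    convert h1 using 1
    ring
  set y := a * (2 * c + 1) with hy
  have hy1 : 1 ≤ y := Nat.mul_pos ha0 (by omega)
  have e3 : 4 * a * (2 * c + 1) = 4 * y := by rw [hy]; ring
  rw [e3] at h2
  have e4 : 4 * y - 1 = 2 * (2 * y - 1) + 1 := by omega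
  have c1 : Nat.Coprime 4 (2 * c + 1) := by
    have : (4 : ℕ) = 2 ^ 2 := by norm_num
    rw [this]
    exact Nat.Coprime.pow_left _ (by simp)
  have c2 : Nat.Coprime 4 (4 * y - 1) := by
    have : (4 : ℕ) = 2 ^ 2 := by norm_num
    rw [e4, this]
    exact Nat.Coprime.pow_left _ (by simp)
  have h3 := c2.dvd_of_dvd_mul_left (c1.dvd_of_dvd_mul_left h2)
  omega

/-! ### the theorem -/

open Cfsg.Agent.H454.Reg.Alt in
/-- **(T1)** -/
theorem st_three : StThree.{u} := by
  intro Ω _ _ H T hn30 A hK hH h3 htriv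
  have := A.finG
  have := A.finT
  have := A.simple
  have := A.normal
  have hc : Nat.card Ω = Fintype.card Ω := Nat.card_eq_fintype_card
  -- `T` consists of even permutations
  have hTalt : ∀ t : T, ((t : H) : Perm Ω) ∈ alternatingGroup Ω := by
    let f : T →* ℤˣ := Perm.sign.comp (H.subtype.comp T.subtype)
    have hf : f.ker = ⊤ := by
      rcases IsSimpleGroup.eq_bot_or_eq_top_of_normal f.ker inferInstance with h | h
      · exfalso
        apply A.nonab
        have hinj : Function.Injective f := (MonoidHom.ker_eq_bot_iff f).1 h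
        exact ⟨⟨fun a b => hinj (by rw [map_mul, map_mul, mul_comm])⟩⟩
      · exact h
    intro t
    have : t ∈ f.ker := by rw [hf]; trivial
    rw [MonoidHom.mem_ker] at this
    exact Perm.mem_alternatingGroup.2 this
  -- `T` is semiregular on the triples
  have hfree : ∀ s : Fin 3 ↪ Ω, stabilizer T s = ⊥ := by
    intro s
    rw [eq_bot_iff]
    intro t ht
    rw [mem_stabilizer_iff] at ht
    have h1 := htriv _ (t : H).2 (hTalt t) (Finset.univ.map s) (by simp) (by
      intro x hx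
      rw [Finset.mem_map] at hx
      obtain ⟨i, -, rfl⟩ := hx
      exact DFunLike.congr_fun ht i)
    rw [Subgroup.mem_bot]
    exact Subtype.ext (Subtype.ext h1)
  have hdvd : Nat.card T ∣ Nat.card Ω * (Nat.card Ω - 1) * (Nat.card Ω - 2) := by
    have h1 := card_dvd_of_free hfree
    have h2 : Nat.card (Fin 3 ↪ Ω) = Nat.card Ω * (Nat.card Ω - 1) * (Nat.card Ω - 2) := by
      rw [Nat.card_eq_fintype_card, Fintype.card_embedding_eq, Fintype.card_fin, ← hc, descFactorial_three]
    rwa [h2] at h1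
  have hpos : 0 < Nat.card Ω * (Nat.card Ω - 1) * (Nat.card Ω - 2) := by
    have h1 : 0 < Nat.card Ω := by omega
    have h2 : 0 < Nat.card Ω - 1 := by omega
    have h3 : 0 < Nat.card Ω - 2 := by omega
    positivity
  have hle := Nat.le_of_dvd hpos hdvd
  obtain ⟨m, hm⟩ := exists_half' (G := H) (Ω := Ω) A.two h3
  rw [← hc] at hn30
  generalize hn : Nat.card Ω = n at hK
  cases hK with
  | alt n hn5 e =>
    exfalso
    obtain ⟨e⟩ := e
    have h1 := card_alt (n := n) (by omega)
    rw [← Nat.card_congr e.toEquiv] at h1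
    rw [hn] at hle hn30
    obtain ⟨k, rfl⟩ : ∃ k, n = k + 3 := ⟨n - 3, by omega⟩
    have h2 : (k + 3).factorial = (k + 3) * (k + 3 - 1) * (k + 3 - 2) * k.factorial := by
      rw [Nat.factorial_succ, Nat.factorial_succ, Nat.factorial_succ]
      have e1 : k + 3 - 1 = k + 2 := rfl
      have e2 : k + 3 - 2 = k + 1 := rfl
      rw [e1, e2]
      ring
    have h4 : 3 ≤ k.factorial := by
      have := Nat.self_le_factorial k
      omega
    rw [h2] at h1
    rw [hn] at hpos
    nlinarith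
  | psl F d n hd hd2 e hn' =>
    rcases Nat.lt_or_ge 2 d with h | h
    · exfalso
      obtain ⟨e⟩ := e
      have h1 := Cfsg.Agent.S0243.result (F := F) rfl d (by omega)
      rw [← Nat.card_congr e.toEquiv] at h1
      rw [hn] at hdvd
      exact psl_num (Fintype.one_lt_card (α := F)) h hn' (by omega) h1 hdvd
    · obtain rfl : d = 2 := by omega
      refine ⟨F, inferInstance, inferInstance, ?_, e⟩
      rw [← hc, hn]
      obtain ⟨k, hk⟩ : ∃ k, Fintype.card F = k + 1 := ⟨Fintype.card F - 1, by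
        have : 1 < Fintype.card F := Fintype.one_lt_card
        omega⟩
      have h4 := hd2 rfl
      rw [hk] at hn' h4 ⊢
      have h6 : (k + 1) ^ 2 - 1 = (k + 1 + 1) * k := by
        have : (k + 1) ^ 2 = (k + 1 + 1) * k + 1 := by ring
        omega
      rw [h6, Nat.add_sub_cancel] at hn'
      exact Nat.eq_of_mul_eq_mul_right (by omega) hn'
  | sp F k n hF hk e hn' =>
    exfalso
    obtain ⟨e⟩ := e
    have h1 := Cfsg.Agent.S0245.result (F := F) hF k
    have h2 := Cfsg.Agent.S0246.result (F := F) hF k (by omega)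
    have h4 := Subgroup.card_eq_card_quotient_mul_card_subgroup
      (Subgroup.center (Matrix.symplecticGroup (Fin k) F))
    rw [h1, h2] at h4
    refine sp_num (T := Nat.card T) hk hn' ?_ (by rw [← hn]; exact hdvd)
    rw [Nat.card_congr e.toEquiv]
    refine ⟨∏ i ∈ Finset.range k, (2 ^ (2 * (i + 1)) - 1), ?_⟩
    norm_num at h4
    exact h4.symm
  | psu F q n hq hF e hn' =>
    exfalso
    obtain ⟨e⟩ := e
    have h1 := Cfsg.Agent.H438.ConstFix.psu_card (F := F) hF (by omega)
    rw [← Nat.card_congr e.toEquiv] at h1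
    exact psu_num hq hn' h1 (by rw [← hn]; exact hdvd)
  | sz F k n hk hF e hn' =>
    exfalso
    have hCn : (Nat.card Ω).choose 3 ∣ Nat.card H := by
      rw [← Set.powersetCard.card]
      have : Nonempty (Set.powersetCard Ω 3) := by
        obtain ⟨s, -, hs⟩ := Finset.exists_subset_card_eq (s := (Finset.univ : Finset Ω)) (n := 3)
          (by rw [Finset.card_univ]; omega)
        exact ⟨⟨s, hs⟩⟩
      obtain ⟨x⟩ := this
      rw [← MulAction.index_stabilizer_of_transitive H x]
      exact Subgroup.index_dvd_card _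
    have h6 : Nat.card Ω * (Nat.card Ω - 1) * (Nat.card Ω - 2) ∣ 6 * Nat.card H := by
      have h7 : (3 : ℕ).factorial * (Nat.card Ω).choose 3 = Nat.card Ω * (Nat.card Ω - 1) * (Nat.card Ω - 2) := by
        rw [← Nat.descFactorial_eq_factorial_mul_choose, descFactorial_three]
      rw [← h7]
      exact Nat.mul_dvd_mul_left 6 hCn
    have hq8 : 8 ≤ 2 ^ (2 * k + 1) := by
      calc 8 = 2 ^ 3 := by norm_num
        _ ≤ _ := Nat.pow_le_pow_right (by norm_num) (by omega)
    rcases Cfsg.Agent.H621.HalfT.sz A hm hk hF e (by rw [hn, hn']) with h | h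
    · obtain ⟨e⟩ := e
      have h8 : Nat.card H = Nat.card T := by rw [h, Subgroup.card_top]
      rw [h8, Nat.card_congr e.toEquiv, Cfsg.Agent.H438.SzMax.card_sz hF, hn, hn', hF] at h6
      generalize 2 ^ (2 * k + 1) = q at h6 hq8
      obtain ⟨x, rfl⟩ : ∃ x, q = x + 1 := ⟨q - 1, by omega⟩
      have h9 : (x + 1) ^ 2 + 1 - 2 = x * (x + 2) := by
        have : (x + 1) ^ 2 + 1 = x * (x + 2) + 2 := by ring
        omega
      rw [h9, Nat.add_sub_cancel, Nat.add_sub_cancel] at h6
      have h10 : x + 2 ∣ 6 := by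
        refine Nat.dvd_of_mul_dvd_mul_left (k := ((x + 1) ^ 2 + 1) * (x + 1) ^ 2 * x) ?_ ?_
        · have : 0 < x := by omega
          positivity
        · convert h6 using 1 <;> ring
      have := Nat.le_of_dvd (by norm_num) h10
      omega
    · -- the stabiliser of two points is trivial
      subst h
      have hx : ∃ a b : Ω, a ≠ b := by
        have : Nontrivial Ω := Finite.one_lt_card_iff_nontrivial.1 (by omega)
        exact exists_pair_ne Ω
      obtain ⟨a, b, hab⟩ := hx
      have h7 : GG H a b = ⊥ := by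
        rw [eq_bot_iff]
        intro g hg
        rw [Subgroup.mem_bot]
        have hg' := mem_GG.1 hg
        have := A.faithful
        refine FaithfulSMul.eq_of_smul_eq_smul (α := Ω) fun c => ?_
        rw [one_smul]
        by_cases hca : c = a
        · rw [hca]; exact hg'.1
        by_cases hcb : c = b
        · rw [hcb]; exact hg'.2
        have h8 := hm.orb a b c hab hca hcb
        rw [Nat.card_eq_one_iff_unique] at h8
        have := h8.1
        have h9 : (⟨(⟨g, hg⟩ : GG H a b) • c, mem_orbit _ _⟩ : orbit (GG H a b) c) = ⟨c, mem_orbit_self c⟩ :=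
          Subsingleton.elim _ _
        exact congrArg Subtype.val h9
      have h8 : Nat.card H = Nat.card Ω * (Nat.card Ω - 1) := by
        exact card_of_bot A.two hab h7
      rw [h8] at h6
      have h9 : Nat.card Ω - 2 ∣ 6 := by
        refine Nat.dvd_of_mul_dvd_mul_left (k := Nat.card Ω * (Nat.card Ω - 1)) ?_ ?_
        · have h1 : 0 < Nat.card Ω := by omega
          have h2 : 0 < Nat.card Ω - 1 := by omega
          positivity
        · rw [mul_comm _ 6]; exact h6
      have := Nat.le_of_dvd (by norm_num) h9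
      omega
  | ree K k n hk hK e hn' => exact (Cfsg.Agent.H528.HalfRee.ree A hm hk hK e (by rwa [hn])).elim
  | psl2_8 F hF e => omega
  | psl2_9 F hF e => omega
  | psl2_11 F hF e => omega
  | psl4_2 F hF e => omega
  | a7 e => omega
  | m11 h => omega
  | m11' h => omega
  | m12 h => omega
  | m22 h => omega
  | m23 h => omega
  | m24 h => omega
  | hs h =>
    exfalso
    rw [hn, Cfsg.Agent.NotCT.Orders.hs h] at hle
    norm_num at hle
  | co3 h =>
    exfalso
    rw [hn, Cfsg.Agent.NotCT.Orders.co3 h] at hle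
    norm_num at hle

end Cfsg.Agent.H279.Reg3691
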